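import Cfsg.Agent.H954.LD.RowBAbs
import Cfsg.Agent.H792.LD.AsmB
import Cfsg.Agent.H139.LD.Struct13
import Cfsg.Agent.H712.LD.Values13
import Cfsg.Agent.H715.Mon.Exact
import Cfsg.Agent.H954.DR.CentB
import Cfsg.Agent.S3331

/-!
# The 2-block of small defect of the Baby Monster (helper360, for S4929 / S4928)

* `exists_coprime` : (the theorem `H954.LD.exists_coprime` of helper954, keeping the block) if `ω_χ(x) ∉ M` for some
  `χ`, there is such a `χ` of degree divisible by `2 ^ 38` and prime to `4371 = 3 · 31 · 47`;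
* `blockB` : the Baby Monster.
-/

set_option autoImplicit false
set_option maxRecDepth 100000

open Cfsg Subgroup

namespace Cfsg.Agent.H360.EP

open Cfsg.Agent.Blocks.Local Cfsg.Agent.Blocks.Basic Cfsg.Agent.H531.MB Cfsg.Agent.H954.LD

universe u

theorem exists_coprime {G : Type u} [Group G] [Finite G] [IsSimpleGroup G] (hG : ¬ IsMulCommutative G)
    (hN : Nat.card G = nB) (C : CentB G) {x : G} (hx : orderOf x = 13)
    (h312 : Nat.card (centralizer ({x} : Set G)) = 312) (hV : Vals13 G x) {M : Ideal AlgInt} (hM : IsPModular 2 M)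
    (h0 : ∃ χ : IrrCharacter G, ¬ MemLocalIdeal M (centralChar (χ : G → ℂ) x)) :
    ∃ χ : IrrCharacter G, Nat.Coprime (charDegree (χ : G → ℂ)) 4371 ∧ 2 ^ 38 ∣ charDegree (χ : G → ℂ) ∧
      ¬ MemLocalIdeal M (centralChar (χ : G → ℂ) x) := by
  classical
  have hMp := isPrime_of_isPModular hM
  have : Finite (IrrCharacter G) := Characters.Core.finite_irr
  have := Fintype.ofFinite (IrrCharacter G)
  obtain ⟨z, hz, hxz, hval⟩ := hV
  obtain ⟨χ₀, hχ₀⟩ := h0
  have hidx : ((centralizer ({x} : Set G)).index).factorization 2 = 38 := by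
    have h1 := (centralizer ({x} : Set G)).card_mul_index
    rw [h312, hN] at h1
    have h2 : (centralizer ({x} : Set G)).index = 2 ^ 38 * 48445535182047609375 := by
      unfold nB at h1
      omega
    rw [h2, Nat.factorization_mul (by norm_num) (by norm_num), Nat.Prime.factorization_pow Nat.prime_two,
      Finsupp.add_apply, Finsupp.single_eq_same,
      Nat.factorization_eq_zero_of_not_dvd (by norm_num : ¬ 2 ∣ 48445535182047609375)]
  have hvw : ∀ χ : IrrCharacter G, ∃ v w : ℤ, (χ : G → ℂ) x = v ∧ (v ≠ 0 → (χ : G → ℂ) (x * z) = w ∧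
      ∃ ε : ℤ, (ε = 1 ∨ ε = -1) ∧ ((v = ε ∧ w = ε) ∨ (v = 2 * ε ∧ w = 2 * ε) ∨ (v = 3 * ε ∧ w = -ε))) := by
    intro χ
    rcases hval χ with h | ⟨ε, hε, h | h | h⟩
    · exact ⟨0, 0, by rw [h, Int.cast_zero], fun h1 => absurd rfl h1⟩
    · exact ⟨ε, ε, h.1, fun _ => ⟨h.2, ε, hε, Or.inl ⟨rfl, rfl⟩⟩⟩
    · exact ⟨2 * ε, 2 * ε, h.1, fun _ => ⟨h.2, ε, hε, Or.inr (Or.inl ⟨rfl, rfl⟩)⟩⟩
    · exact ⟨3 * ε, -ε, h.1, fun _ => ⟨h.2, ε, hε, Or.inr (Or.inr ⟨rfl, rfl⟩)⟩⟩
  choose v w hv hw using hvw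
  set b : Finset (IrrCharacter G) := (Set.toFinite (blockOf M (χ₀ : G → ℂ))).toFinset with hb
  have hbm : ∀ ψ, ψ ∈ b ↔ ψ ∈ blockOf M (χ₀ : G → ℂ) := fun ψ => by rw [hb, Set.Finite.mem_toFinset]
  have hfac : ∀ ψ ∈ b, v ψ ≠ 0 ∧ (charDegree (ψ : G → ℂ)).factorization 2 = 38 + (v ψ).natAbs.factorization 2 := by
    intro ψ hψ
    have h1 := H792.DS.factorization_eq_of_mem hM hχ₀ ((hbm ψ).1 hψ) (hv ψ)
    rw [hidx] at h1
    exact h1
  have hdvd : ∀ ψ : IrrCharacter G, ∀ n : ℕ, 2 ^ n ∣ charDegree (ψ : G → ℂ) ↔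
      n ≤ (charDegree (ψ : G → ℂ)).factorization 2 := fun ψ n =>
    Nat.prime_two.pow_dvd_iff_le_factorization (charDegree_pos ψ.2).ne'
  have hodd : ∀ n : ℕ, (n = 1 ∨ n = 3) → n.factorization 2 = 0 := by
    rintro n (rfl | rfl)
    · simp
    · exact Nat.factorization_eq_zero_of_not_dvd (by norm_num)
  have h38 : ∀ ψ ∈ b, 2 ^ 38 ∣ charDegree (ψ : G → ℂ) := by
    intro ψ hψ
    rw [hdvd, (hfac ψ hψ).2]
    omega
  have hVal : ∀ ψ ∈ b, Val (v ψ) (w ψ) (charDegree (ψ : G → ℂ)) := by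
    intro ψ hψ
    obtain ⟨h1, h2⟩ := hfac ψ hψ
    obtain ⟨-, ε, hε, h3⟩ := hw ψ h1
    refine ⟨ε, hε, ?_⟩
    rw [hdvd, hdvd, h2]
    rcases h3 with h3 | h3 | h3
    · left
      refine ⟨h3.1, h3.2, ?_⟩
      rw [hodd _ (Or.inl (by rw [h3.1]; rcases hε with rfl | rfl <;> rfl))]
      omega
    · right; left
      refine ⟨h3.1, h3.2, ?_⟩
      have h4 : (v ψ).natAbs = 2 := by rw [h3.1]; rcases hε with rfl | rfl <;> rfl
      rw [h4, Nat.Prime.factorization_self Nat.prime_two]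
      omega
    · right; right
      refine ⟨h3.1, h3.2, ?_⟩
      rw [hodd _ (Or.inr (by rw [h3.1]; rcases hε with rfl | rfl <;> rfl))]
      omega
  have hsq : ∑ ψ ∈ b, v ψ * v ψ ≤ 312 := by
    have h1 := H686.CharKit.sum_normSq x
    rw [h312] at h1
    have h2 : ∑ ψ : IrrCharacter G, v ψ * v ψ = 312 := by
      have h3 : ((∑ ψ : IrrCharacter G, v ψ * v ψ : ℤ) : ℝ) = 312 := by
        rw [← (by exact_mod_cast h1 : ∑ χ : IrrCharacter G, Complex.normSq ((χ : G → ℂ) x) = (312 : ℝ)), Int.cast_sum]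
        refine Finset.sum_congr rfl fun ψ _ => ?_
        rw [hv ψ, Complex.normSq_intCast]
        push_cast
        ring
      exact_mod_cast h3
    rw [← h2]
    exact Finset.sum_le_sum_of_subset_of_nonneg (Finset.subset_univ b) fun ψ _ _ => mul_self_nonneg _
  have hsum : ∑ ψ ∈ b, (charDegree (ψ : G → ℂ) : ℤ) * w ψ = 0 := by
    have hxz2 : 2 ∣ orderOf (x * z) := by
      have h1 : orderOf (x * z) = 13 * 2 := by
        rw [hxz.orderOf_mul_eq_mul_orderOf_of_coprime (by rw [hx, hz]; norm_num), hx, hz]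
      rw [h1]
      norm_num
    have horth := Cfsg.Agent.Blocks.Orthogonality.weak_block_orthogonality hM (blockOf M (χ₀ : G → ℂ))
      (Cfsg.Agent.Blocks.Osima.memLocalRing_blockCoeff hM (isPBlock_blockOf χ₀)) (x := (1 : G)) (y := x * z)
      (by rw [orderOf_one]; norm_num) hxz2
    rw [finsum_mem_eq_finite_toFinset_sum _ (Set.toFinite _), ← hb] at horth
    have h1 : ((∑ ψ ∈ b, (charDegree (ψ : G → ℂ) : ℤ) * w ψ : ℤ) : ℂ) = 0 := by
      rw [← horth, Int.cast_sum]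
      refine Finset.sum_congr rfl fun ψ hψ => ?_
      rw [irr_one_eq_charDegree ψ.2, (hw ψ (hfac ψ hψ).1).1, Int.cast_mul, Int.cast_natCast, ← Complex.ofReal_intCast,
        Complex.conj_ofReal]
    exact_mod_cast h1
  obtain ⟨ψ, hψ, h⟩ := H531.MB.exists_coprime hG hN C hx b ⟨χ₀, (hbm _).2 (mem_blockOf_self χ₀)⟩ v w h38
    (fun ψ _ => hv ψ) hVal hsq hsum
  refine ⟨ψ, h, h38 ψ hψ, fun h1 => hχ₀ ?_⟩
  have h2 := memLocalIdeal_add ((hbm ψ).1 hψ x) h1
  rwa [sub_add_cancel] at h2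

/-- **The 2-block of the Baby Monster with the defect group of order 8.** -/
theorem blockB {L : Type u} [Group L] [Finite L] [IsSimpleGroup L] (h : Spor.IsoB L) {x : L} (hx : orderOf x = 13)
    {M : Ideal AlgInt} (hM : IsPModular 2 M) :
    ∃ χ : IrrCharacter L, Nat.Coprime (charDegree (χ : L → ℂ)) 4371 ∧ 2 ^ 38 ∣ charDegree (χ : L → ℂ) ∧
      ¬ MemLocalIdeal M (centralChar (χ : L → ℂ) x) := by
  have hN : Nat.card L = nB := Cfsg.Agent.H792.LD.card_b h
  have h3 : Cfsg.Agent.H715.Mon.Grp.SThree.{0} := fun _ _ _ X hX hC => S3331.result X hX hC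
  have ex : ∀ {p : ℕ}, p.Prime → p ∣ nB → ∃ y : L, orderOf y = p := by
    intro p hp hd
    have : Fact p.Prime := ⟨hp⟩
    exact exists_prime_orderOf_dvd_card' p (by rw [hN]; exact hd)
  have C : CentB L := by
    refine ⟨?_, ?_, ?_, ?_⟩
    · obtain ⟨y, hy⟩ := ex (p := 19) (by norm_num) (by unfold nB; norm_num)
      exact ⟨y, hy, Cfsg.Agent.H715.Mon.Exact.B.cent19 h3 h hy⟩
    · obtain ⟨y, hy⟩ := ex (p := 23) (by norm_num) (by unfold nB; norm_num)
      exact ⟨y, hy, Cfsg.Agent.H715.Mon.Exact.B.cent23 h3 h hy⟩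
    · obtain ⟨y, hy⟩ := ex (p := 31) (by norm_num) (by unfold nB; norm_num)
      exact ⟨y, hy, Cfsg.Agent.H715.Mon.Exact.B.cent31 h3 h hy⟩
    · obtain ⟨y, hy⟩ := ex (p := 47) (by norm_num) (by unfold nB; norm_num)
      exact ⟨y, hy, Cfsg.Agent.H954.DR.CentB.cent47 h hy⟩
  have hnc : ¬ IsMulCommutative L := by
    intro hc
    have h312 := (Cfsg.Agent.H139.LD.struct13 h hx).1
    have h1 : centralizer ({x} : Set L) = ⊤ := by
      rw [eq_top_iff]
      intro g _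
      exact mem_centralizer_singleton_iff.2 (hc.is_comm.comm g x)
    rw [h1, Subgroup.card_top, hN] at h312
    unfold nB at h312
    norm_num at h312
  exact exists_coprime hnc hN C hx (Cfsg.Agent.H139.LD.struct13 h hx).1
    (Cfsg.Agent.H712.LD.values13 h hx (Cfsg.Agent.H139.LD.struct13 h hx)) hM
    (Cfsg.Agent.H792.LD.exists_block h hx hM)

end Cfsg.Agent.H360.EP
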