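import Cfsg.Agent.H360.EP.TwoPrime
import Cfsg.Agent.H360.EP.BlockB
import Cfsg.Agent.H648.Loc.RowM
import Cfsg.Agent.H892.EP.Rows

/-!
# S4929 / S4928: the Monster, `p = 31` (helper360)

* `inducedCentralChar_infl` : a double cover `H → L`, elements of order `r` of `L` conjugate: the induced central
  character of the inflation of `ψ` at an element `u` of order `r` of `H` is the central character of `ψ`;
* `evM_31` : **the principal 31-block of the Monster contains a character of even degree.**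
-/

set_option autoImplicit false
set_option maxRecDepth 100000

open scoped ComplexConjugate
open Cfsg Subgroup

namespace Cfsg.Agent.H360.EP

open Cfsg.Agent.Blocks.Local Cfsg.Agent.Blocks.Basic Cfsg.Agent.H892.EP
open Cfsg.Agent.H684.BlockTools (infl)
open Cfsg.Agent.H241.Mon

universe u v

/-- from a congruence of central characters to the induced block -/
theorem isInducedBlock_of {G : Type u} [Group G] [Finite G] {M : Ideal AlgInt} (hM : M.IsPrime) {H : Subgroup G}
    (ξ : IrrCharacter H) (χ : IrrCharacter G)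
    (h : ∀ g, MemLocalIdeal M (inducedCentralChar H (ξ : H → ℂ) g - centralChar (χ : G → ℂ) g)) :
    IsInducedBlock M H (blockOf M (ξ : H → ℂ)) (blockOf M (χ : G → ℂ)) := by
  refine ⟨isPBlock_blockOf ξ, isPBlock_blockOf χ, fun η hη χ' hχ' g => ?_⟩
  have h1 := Cfsg.Agent.Blocks.Induced.memLocalIdeal_induced_sub hM H ξ η hη g
  have h2 := h g
  have h3 := hχ' g
  have h4 := memLocalIdeal_add (memLocalIdeal_add (Cfsg.Agent.Blocks.Induced.memLocalIdeal_neg h1) h2) h3
  have h5 : inducedCentralChar H (η : H → ℂ) g - centralChar (χ' : G → ℂ) g =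
      -(inducedCentralChar H (ξ : H → ℂ) g - inducedCentralChar H (η : H → ℂ) g) +
        (inducedCentralChar H (ξ : H → ℂ) g - centralChar (χ : G → ℂ) g) +
        (centralChar (χ : G → ℂ) g - centralChar (χ' : G → ℂ) g) := by ring
  rw [h5]
  exact h4

/-- **Double covers.** -/
theorem inducedCentralChar_infl {G : Type u} [Group G] [Finite G] {H : Subgroup G} {L : Type v} [Group L] [Finite L]
    (φ : H →* L) (hφ : Function.Surjective φ) (hk : φ.ker ≤ center H) (hk2 : ∀ z ∈ φ.ker, z * z = 1) {r : ℕ}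
    (hr : r.Prime) (hr2 : r ≠ 2) (hone : ∀ a b : L, orderOf a = r → orderOf b = r → IsConj a b) {u : H}
    (hu : orderOf u = r) (ψ : IrrCharacter L) :
    inducedCentralChar H (infl φ hφ ψ : H → ℂ) (u : G) = centralChar (ψ : L → ℂ) (φ u) := by
  have hrodd : Odd r := hr.odd_of_ne_two hr2
  -- an element of the kernel whose r-th power is 1 is trivial
  have hker1 : ∀ z ∈ φ.ker, z ^ r = 1 → z = 1 := by
    intro z hz hzr
    obtain ⟨k, hk⟩ := hrodd
    rw [hk, pow_succ, pow_mul, pow_two, hk2 z hz, one_pow, one_mul] at hzr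
    exact hzr
  have hord : ∀ h : H, orderOf h = r → orderOf (φ h) = r := by
    intro h hh
    have h1 : orderOf (φ h) ∣ r := by
      rw [← hh]
      exact orderOf_map_dvd φ h
    rcases (Nat.dvd_prime hr).1 h1 with h2 | h2
    · exfalso
      rw [orderOf_eq_one_iff] at h2
      have h3 := hker1 h h2 (by rw [← hh, pow_orderOf_eq_one])
      rw [h3, orderOf_one] at hh
      exact hr.ne_one hh.symm
    · exact h2
  have hbij : Set.BijOn (φ : H → L) {h : H | IsConj (u : G) (h : G)} {l : L | IsConj (φ u) l} := by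
    refine ⟨?_, ?_, ?_⟩
    · intro h hh
      have h1 : orderOf h = r := by
        obtain ⟨c, hc⟩ := isConj_iff.1 (show IsConj (u : G) (h : G) from hh)
        rw [← Subgroup.orderOf_coe, ← hc, ← hu, ← Subgroup.orderOf_coe]
        exact (MulAut.conj c).orderOf_eq (u : G)
      exact hone _ _ (hord u hu) (hord h h1)
    · intro a ha b hb hab
      have h1 : ∀ h : H, IsConj (u : G) (h : G) → h ^ r = 1 := by
        intro h hh
        obtain ⟨c, hc⟩ := isConj_iff.1 hh
        apply Subtype.ext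
        rw [Subgroup.coe_pow, ← hc, conj_pow, ← Subgroup.coe_pow, ← hu, pow_orderOf_eq_one, Subgroup.coe_one]
        group
      have h2 : a⁻¹ * b ∈ φ.ker := by
        rw [MonoidHom.mem_ker, map_mul, map_inv]
        have h3 : φ a = φ b := hab
        rw [h3, inv_mul_cancel]
      have h3 : (a⁻¹ * b) ^ r = 1 := by
        have h4 : b = (a⁻¹ * b) * a := by
          rw [← (Subgroup.mem_center_iff.1 (hk h2) a)]; group
        have h5 : b ^ r = (a⁻¹ * b) ^ r * a ^ r := by
          conv_lhs => rw [h4]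
          have h6 : Commute (a⁻¹ * b) a := ((Subgroup.mem_center_iff.1 (hk h2) a)).symm
          exact h6.mul_pow r
        rw [h1 b hb, h1 a ha, mul_one] at h5
        exact h5.symm
      have h4 := hker1 _ h2 h3
      exact (inv_mul_eq_one.1 h4)
    · intro l hl
      obtain ⟨g, hg⟩ := isConj_iff.1 (show IsConj (φ u) l from hl)
      obtain ⟨k, rfl⟩ := hφ g
      refine ⟨k * u * k⁻¹, ?_, ?_⟩
      · show IsConj (u : G) ((k * u * k⁻¹ : H) : G)
        exact isConj_iff.2 ⟨(k : G), by push_cast; rfl⟩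
      · rw [map_mul, map_mul, map_inv, hg]
  have h1 : inducedCentralChar H (infl φ hφ ψ : H → ℂ) (u : G) = ∑ᶠ l ∈ {l : L | IsConj (φ u) l}, (ψ : L → ℂ) l / (ψ : L → ℂ) 1 := by
    show ∑ᶠ h ∈ {h : H | IsConj (u : G) (h : G)}, (infl φ hφ ψ : H → ℂ) h / (infl φ hφ ψ : H → ℂ) 1 = _
    refine finsum_mem_eq_of_bijOn φ hbij fun h _ => ?_
    show (ψ : L → ℂ) (φ h) / (ψ : L → ℂ) (φ 1) = _
    rw [map_one]
  rw [h1, centralChar_def, ← Cfsg.Agent.Blocks.Induced.ncard_conj_eq_index (φ u)]
  have h2 : ∑ᶠ l ∈ {l : L | IsConj (φ u) l}, (ψ : L → ℂ) l / (ψ : L → ℂ) 1 =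
      ∑ᶠ _l ∈ {l : L | IsConj (φ u) l}, (ψ : L → ℂ) (φ u) / (ψ : L → ℂ) 1 := by
    refine finsum_mem_congr rfl fun l hl => ?_
    obtain ⟨c, hc⟩ := isConj_iff.1 (show IsConj (φ u) l from hl)
    rw [← hc, Cfsg.Agent.Blocks.Induced.isClassFunction_of_isIrrCharacter ψ.2]
  rw [h2, finsum_mem_eq_finite_toFinset_sum _ (Set.toFinite _), Finset.sum_const, nsmul_eq_mul,
    ← Set.ncard_eq_toFinset_card _ (Set.toFinite _)]
  ring

/-- the model of the Monster -/
theorem ev_model : EvAt 31 Gam := by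
  intro Mp hMp
  have hp2 : Fact (Nat.Prime 2) := ⟨Nat.prime_two⟩
  have hp31 : Fact (Nat.Prime 31) := ⟨by norm_num⟩
  have h13 : Nat.Prime 13 := by norm_num
  have hsB : IsSimpleGroup Spor.BabyMonster := Cfsg.Agent.S1704.result.1
  have hfB : Finite Spor.BabyMonster := CTwoTab.BInst.finite_B
  have h3 : Cfsg.Agent.H715.Mon.Grp.SThree.{0} := fun _ _ _ X hX hC => S3331.result X hX hC
  obtain ⟨M, hM⟩ := Cfsg.Agent.Blocks.ExistsModular.exists_isPModular Nat.prime_two
  have hMp' := isPrime_of_isPModular hM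
  have hB : Spor.IsoB Spor.BabyMonster := ⟨MulEquiv.refl _⟩
  obtain ⟨t, -, h2, ⟨e⟩⟩ := H979.OddB.exists_cover hB
  set H : Subgroup Gam := centralizer ({t} : Set Gam) with hH
  let φ : H →* Spor.BabyMonster := e.toMonoidHom.comp (QuotientGroup.mk' (center H))
  have hφ : Function.Surjective φ := e.surjective.comp (QuotientGroup.mk'_surjective _)
  have hker : φ.ker = center H := by
    ext x
    rw [MonoidHom.mem_ker]
    show e (QuotientGroup.mk x) = 1 ↔ _
    rw [map_eq_one_iff e e.injective, QuotientGroup.eq_one_iff]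
  have htH : t ∈ H := mem_centralizer_singleton_iff.2 rfl
  -- the order of `t`
  have hcen : (⟨t, htH⟩ : H) ∈ center H := by
    rw [mem_center_iff]
    intro g
    exact Subtype.ext (mem_centralizer_singleton_iff.1 g.2)
  have hk2 : ∀ z ∈ φ.ker, z * z = 1 := by
    intro z hz
    rw [hker] at hz
    have h4 : (⟨z, hz⟩ : center H) ^ 2 = 1 := by
      rw [← h2]
      exact pow_card_eq_one'
    have h5 := congrArg (Subtype.val : center H → H) h4
    rw [pow_two] at h5
    exact h5
  have hct : Nat.card H = 2 * 4154781481226426191177580544000000 := by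
    have h3 := (center H).card_eq_card_quotient_mul_card_subgroup
    rw [h2, Nat.card_congr e.toEquiv, Cfsg.Agent.H648.Loc.card_b] at h3
    rw [h3]
  have ht : orderOf t = 2 := by
    have h4 : t ^ 2 = 1 := by
      rw [pow_two]
      exact congrArg (Subtype.val : H → Gam) (hk2 ⟨t, htH⟩ (by rw [hker]; exact hcen))
    rcases (Nat.dvd_prime Nat.prime_two).1 (orderOf_dvd_of_pow_eq_one h4) with h5 | h5
    · exfalso
      rw [orderOf_eq_one_iff] at h5
      have h6 : H = ⊤ := by
        rw [eq_top_iff]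
        intro g _
        rw [hH, h5]
        exact mem_centralizer_singleton_iff.2 (by rw [mul_one, one_mul])
      rw [h6, Subgroup.card_top, card_G] at hct
      norm_num at hct
    · exact h5
  -- the element of order 31
  obtain ⟨y, hy⟩ : ∃ y : Spor.BabyMonster, orderOf y = 31 :=
    exists_prime_orderOf_dvd_card' 31 (by rw [Cfsg.Agent.H648.Loc.card_b]; norm_num)
  obtain ⟨x, hx, hxy⟩ := Cfsg.Agent.H979.CovLift.exists_lift h2 (by norm_num : Nat.Prime 31) (by norm_num) (x := e.symm y)
    (by rw [MulEquiv.orderOf_eq, hy])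
  have hx' : orderOf (x : Gam) = 31 := by rw [Subgroup.orderOf_coe, hx]
  have hinf : Nat.card ↥(centralizer ({(x : Gam)} : Set Gam) ⊓ H) = 62 := by
    have h1 := Cfsg.Agent.H180.TH.Baby.card_quot h2 e (x := x) (n := 31) (by decide)
      (by rw [← hx, pow_orderOf_eq_one])
    rw [hxy, e.apply_symm_apply, Cfsg.Agent.H715.Mon.Exact.B.cent31 h3 hB hy] at h1
    exact h1
  have hC := Cfsg.Agent.H715.Mon.Cent.card31 h3 hx'
  -- the element of order 13
  obtain ⟨y₁, hy₁⟩ : ∃ y : Spor.BabyMonster, orderOf y = 13 := by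
    have : Fact (Nat.Prime 13) := ⟨h13⟩
    exact exists_prime_orderOf_dvd_card' 13 (by rw [Cfsg.Agent.H648.Loc.card_b]; norm_num)
  obtain ⟨w, hw, hwy⟩ := Cfsg.Agent.H979.CovLift.exists_lift h2 h13 (by norm_num) (x := e.symm y₁)
    (by rw [MulEquiv.orderOf_eq, hy₁])
  have hφw : φ w = y₁ := by
    show e (QuotientGroup.mk w) = y₁
    rw [hwy, e.apply_symm_apply]
  -- the character of `2.B`
  obtain ⟨ψ₀, hψcop, -, hψ0⟩ := blockB hB hy₁ hM
  set ψ : IrrCharacter H := infl φ hφ ψ₀ with hψ
  have hdeg : charDegree (ψ : H → ℂ) = charDegree (ψ₀ : Spor.BabyMonster → ℂ) := by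
    apply charDegree_of_eq
    show (ψ₀ : Spor.BabyMonster → ℂ) (φ 1) = _
    rw [map_one, irr_one_eq_charDegree ψ₀.2]
  have hψx : (ψ : H → ℂ) x ≠ 0 := by
    intro h0
    have h1 := H792.DS.degree_modEq (by norm_num : Nat.Prime 31) ψ.2 hx (m := 0) (by rw [h0, Int.cast_zero])
    rw [hdeg] at h1
    have h4 : (31 : ℤ) ∣ (charDegree (ψ₀ : Spor.BabyMonster → ℂ) : ℤ) := Int.modEq_zero_iff_dvd.1 h1
    have h5 : 31 ∣ charDegree (ψ₀ : Spor.BabyMonster → ℂ) := by exact_mod_cast h4
    have h6 : (31 : ℕ) ∣ 1 := by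
      rw [← hψcop]
      exact Nat.dvd_gcd h5 (by norm_num)
    norm_num at h6
  -- the induced block
  have hcc : centralizer ((zpowers t : Subgroup Gam) : Set Gam) = H := by
    ext g
    rw [hH, mem_centralizer_singleton_iff, mem_centralizer_iff]
    constructor
    · intro h
      exact (h t (mem_zpowers t)).symm
    · rintro h _ ⟨m, rfl⟩
      exact ((show Commute g t from h).zpow_right m).eq.symm
  obtain ⟨χ₀, hχ₀⟩ := Cfsg.Agent.Blocks.BrauerHom.exists_irr_induced (P := zpowers t) (H := H) hM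
    (IsPGroup.of_card (n := 1) (by rw [Nat.card_zpowers, ht, pow_one])) (by rw [zpowers_le]; exact htH) hcc.le (by
      rw [← hcc]
      exact centralizer_le_normalizer _) ψ.2
  have hind := isInducedBlock_of hMp' ψ χ₀ hχ₀
  -- the unit
  have hunit : ¬ MemLocalIdeal M (centralChar (χ₀ : Gam → ℂ) (w : Gam)) := by
    intro h0
    have h1 := hχ₀ (w : Gam)
    rw [inducedCentralChar_infl φ hφ hker.le hk2 h13 (by norm_num) Cfsg.Agent.H648.Loc.b_main.2.1 hw ψ₀, hφw] at h1
    have h4 := memLocalIdeal_add h1 h0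
    rw [sub_add_cancel] at h4
    exact hψ0 h4
  -- the trick
  obtain ⟨χ, hχB, hχ⟩ := exists_mem_principal (q := 2) (p := 31) (by norm_num) hM hMp ht hx' hH x.2 ψ hind hψx (by
    intro g hgx hg31 hg2
    set C : Subgroup Gam := centralizer ({(x : Gam)} : Set Gam) with hCdef
    have hgC : g ∈ C := mem_centralizer_singleton_iff.2 hgx
    have htC : t ∈ C := mem_centralizer_singleton_iff.2 (mem_centralizer_singleton_iff.1 x.2).symm
    -- the involution of `⟨g⟩`
    set s : Gam := g ^ (orderOf g / 2) with hs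
    have hs2 : orderOf s = 2 := by
      rw [hs, orderOf_pow_of_dvd (Nat.div_pos (Nat.le_of_dvd (orderOf_pos g) hg2) (by norm_num)).ne' (Nat.div_dvd_of_dvd hg2)]
      exact Nat.div_div_self hg2 (orderOf_pos g).ne'
    have hsC : s ∈ C := pow_mem hgC _
    obtain ⟨c, hc1, hc2⟩ := conj_of_not_sq (X := C) Nat.prime_two (by rw [hC]; norm_num) (x := ⟨s, hsC⟩) (y := ⟨t, htC⟩)
      (by rw [Subgroup.orderOf_mk, hs2]) (by rw [Subgroup.orderOf_mk, ht])
    have hcts : (c : Gam) * t * (c : Gam)⁻¹ = s := by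
      obtain ⟨k, hk⟩ := hc1
      have h1 : s ^ k = (c : Gam) * t * (c : Gam)⁻¹ := congrArg (Subtype.val : C → Gam) hk
      have hss : s ^ 2 = 1 := by rw [← hs2, pow_orderOf_eq_one]
      rcases Int.even_or_odd' k with ⟨m, rfl | rfl⟩
      · exfalso
        rw [zpow_mul, zpow_ofNat, hss, one_zpow] at h1
        have h4 : t = 1 := by
          have h5 : (c : Gam)⁻¹ * ((c : Gam) * t * (c : Gam)⁻¹) * c = t := by group
          rw [← h5, ← h1]; group
        rw [h4, orderOf_one] at ht
        norm_num at ht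
      · rw [zpow_add, zpow_mul, zpow_ofNat, hss, one_zpow, one_mul, zpow_one] at h1
        exact h1.symm
    -- `g` in the centralizer of `s` in `C`
    have hgs : g * s = s * g := by
      rw [hs]
      exact ((Commute.refl g).pow_right _).eq
    have hg1 : (c : Gam)⁻¹ * g * c ∈ C ⊓ H := by
      refine ⟨C.mul_mem (C.mul_mem (C.inv_mem c.2) hgC) c.2, mem_centralizer_singleton_iff.2 ?_⟩
      have h1 : t = (c : Gam)⁻¹ * s * c := by rw [← hcts]; group
      rw [h1]
      calc (c : Gam)⁻¹ * g * c * ((c : Gam)⁻¹ * s * c) = (c : Gam)⁻¹ * (g * s) * c := by group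
        _ = (c : Gam)⁻¹ * (s * g) * c := by rw [hgs]
        _ = _ := by group
    have hgo : orderOf g ∣ 62 := by
      have h1 : orderOf ((c : Gam)⁻¹ * g * c) = orderOf g := by
        have := (MulAut.conj (c : Gam)⁻¹).orderOf_eq g
        rwa [MulAut.conj_apply, inv_inv] at this
      rw [← h1, ← hinf, ← Subgroup.orderOf_mk _ hg1]
      exact orderOf_dvd_natCard _
    have hg2' : orderOf g = 2 := by
      have h1 : orderOf g ∣ 2 := by
        have h4 : Nat.Coprime (orderOf g) 31 := by
          rw [Nat.coprime_comm]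
          exact (Nat.Prime.coprime_iff_not_dvd (by norm_num)).2 hg31
        refine h4.dvd_of_dvd_mul_right (n := 31) ?_
        exact hgo
      exact Nat.dvd_antisymm h1 hg2
    have hsg : s = g := by rw [hs, hg2']; norm_num
    refine isConj_iff.2 ⟨(c : Gam), ?_⟩
    have h1 : (c : Gam) * x = x * c := mem_centralizer_singleton_iff.1 c.2
    rw [← hsg, ← hcts]
    calc (c : Gam) * (t * x) * (c : Gam)⁻¹ = (c : Gam) * t * (c : Gam)⁻¹ * ((c : Gam) * x * (c : Gam)⁻¹) := by group
      _ = (c : Gam) * t * (c : Gam)⁻¹ * x := by rw [h1]; group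
      _ = (c : Gam) * t * (c : Gam)⁻¹ * x := rfl
      _ = x * ((c : Gam) * t * (c : Gam)⁻¹) := by
        rw [hcts, hsg, hgx])
  refine ⟨χ, hχ, ?_⟩
  -- the degree is even
  have hχw : ¬ MemLocalIdeal M (centralChar (χ : Gam → ℂ) (w : Gam)) := by
    intro h0
    apply hunit
    have h1 := memLocalIdeal_add (hχB (w : Gam)) h0
    rwa [sub_add_cancel] at h1
  have hle := H792.DS.factorization_le_of_centralChar hM χ.2 (w : Gam) hχw
  have A := Cfsg.Agent.MonsterU.Uncond.all
  have h4 : 4 ∣ (centralizer ({(w : Gam)} : Set Gam)).index := by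
    refine Cfsg.Agent.H648.Loc.four_dvd_of_large (Cfsg.Agent.MonsterU.ModelChart.large A.hG A.hR A.hL A.hO A.hT) ?_
      (r := 13) (by norm_num) (by norm_num) (by rw [Subgroup.orderOf_coe, hw])
    have h1 := Cfsg.Agent.H713.Spor.MOf.card_cent_z A.hG A.hR A.hL A.hO A.hT
    rw [h1]
    norm_num
  have h5 : 1 ≤ ((centralizer ({(w : Gam)} : Set Gam)).index).factorization 2 := by
    rw [← Nat.prime_two.pow_dvd_iff_le_factorization index_ne_zero_of_finite, pow_one]
    exact (by norm_num : (2 : ℕ) ∣ 4).trans h4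
  have h6 := (Nat.prime_two.pow_dvd_iff_le_factorization (charDegree_pos χ.2).ne').2 (h5.trans hle)
  rwa [pow_one] at h6

/-- **The Monster, `p = 31`.** -/
theorem evM_31 {K : Type u} [Group K] [Finite K] (h : Spor.IsoM K) : EvAt 31 K := by
  have hp31 : Fact (Nat.Prime 31) := ⟨by norm_num⟩
  obtain ⟨e⟩ := h
  obtain ⟨f⟩ := Cfsg.Agent.MonsterP.Equiv.equiv
  exact EvAt.tr (e.trans f).symm ev_model

end Cfsg.Agent.H360.EP
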